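import Groth.Agent.Lib.Rigidity.Smooth.AffineSpace
import Mathlib

/-!
# Points of proper group schemes over purely transcendental field extensions
-/

universe u

open CategoryTheory MonoidalCategory CartesianMonoidalCategory MonObj GrpObj AlgebraicGeometry

namespace GrothLib.RatPoints

/-- A point of a scheme of finite type with values in a fraction field extends to some localisation. -/
theorem exists_away {F : Type u} [Field F] {R : Type u} [CommRing R] [IsDomain R] [Algebra F R]
    {X : Scheme.{u}} (f : X ⟶ Spec (CommRingCat.of F)) [LocallyOfFiniteType f]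
    (Q : Type u) [Field Q] [Algebra R Q] [IsFractionRing R Q] [Algebra F Q] [IsScalarTower F R Q]
    (g : Spec (CommRingCat.of Q) ⟶ X) (hg : g ≫ f = Spec.map (CommRingCat.ofHom (algebraMap F Q))) :
    ∃ (s : R) (_ : s ≠ 0) (jQ : Localization.Away s →ₐ[F] Q) (g' : Spec (CommRingCat.of (Localization.Away s)) ⟶ X),
      g = Spec.map (CommRingCat.ofHom jQ.toRingHom) ≫ g' ∧
        g' ≫ f = Spec.map (CommRingCat.ofHom (algebraMap F (Localization.Away s))) := by
  obtain ⟨_, ⟨V, hV, rfl⟩, hyV, -⟩ :=
    X.isBasis_affineOpens.exists_subset_of_mem_open (Set.mem_univ (g default)) isOpen_univ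
  have hVtop : g ⁻¹ᵁ V = ⊤ := by
    ext x
    simp only [Scheme.Hom.coe_preimage, Set.mem_preimage, TopologicalSpace.Opens.coe_top, Set.mem_univ,
      iff_true]
    rw [Subsingleton.elim x default]
    exact hyV
  -- `g` factors through `V`
  have hrange : Set.range g ⊆ Set.range hV.fromSpec := by
    rintro _ ⟨x, rfl⟩
    rw [hV.range_fromSpec, Subsingleton.elim x default]
    exact hyV
  set g₁ := IsOpenImmersion.lift hV.fromSpec g hrange with hg₁
  have hfac : g₁ ≫ hV.fromSpec = g := IsOpenImmersion.lift_fac _ _ _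
  obtain ⟨φ, hφ⟩ := Spec.map_surjective g₁
  obtain ⟨ψ, hψ⟩ := Spec.map_surjective (hV.fromSpec ≫ f)
  algebraize [ψ.hom]
  have hψQ : φ.hom.comp ψ.hom = algebraMap F Q := by
    have : ψ ≫ φ = CommRingCat.ofHom (algebraMap F Q) := by
      apply Spec.map_injective
      rw [Spec.map_comp, hψ, hφ, reassoc_of% hfac, hg]
    exact congrArg CommRingCat.Hom.hom this
  haveI : Algebra.FiniteType F Γ(X, V) := by
    have : LocallyOfFiniteType (Spec.map ψ) := by rw [hψ]; infer_instance
    rw [HasRingHomProperty.Spec_iff (P := @LocallyOfFiniteType)] at this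
    exact this
  let φa : Γ(X, V) →ₐ[F] Q := { φ.hom with commutes' := fun x => congrArg (· x) hψQ }
  classical
  obtain ⟨σ, hσ⟩ := (Algebra.FiniteType.out : (⊤ : Subalgebra F Γ(X, V)).FG)
  obtain ⟨⟨s, hs⟩, hden⟩ := IsLocalization.exist_integer_multiples_of_finset (nonZeroDivisors R)
    (σ.image φa)
  have hs0 : s ≠ 0 := nonZeroDivisors.ne_zero hs
  have hsu : IsUnit (algebraMap R Q s) := IsUnit.mk0 _ (IsFractionRing.to_map_ne_zero_of_mem_nonZeroDivisors hs)
  let jQ : Localization.Away s →ₐ[R] Q :=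
    IsLocalization.liftAlgHom (M := Submonoid.powers s) (f := Algebra.ofId R Q)
      (fun ⟨_, n, rfl⟩ => by
        show IsUnit (algebraMap R Q (s ^ n))
        rw [map_pow]; exact hsu.pow n)
  have hjQ : Function.Injective jQ := by
    rw [injective_iff_map_eq_zero]
    intro a ha
    obtain ⟨a₁, a₂, rfl⟩ := IsLocalization.exists_mk'_eq (Submonoid.powers s) a
    have e1 := congrArg jQ (IsLocalization.mk'_spec (Localization.Away s) a₁ a₂)
    rw [map_mul, ha, zero_mul, AlgHom.commutes] at e1
    rw [IsFractionRing.injective R Q (e1.symm.trans (map_zero _).symm), IsLocalization.mk'_zero]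
  let jF : Localization.Away s →ₐ[F] Q := jQ.restrictScalars F
  have hrangeφ : φa.range ≤ jF.range := by
    rw [← Algebra.map_top, ← hσ, AlgHom.map_adjoin, Algebra.adjoin_le_iff]
    rintro _ ⟨x, hx, rfl⟩
    obtain ⟨r, hr⟩ := hden (φa x) (Finset.mem_image_of_mem _ hx)
    refine ⟨IsLocalization.mk' _ r (⟨s, Submonoid.mem_powers s⟩ : Submonoid.powers s), ?_⟩
    show jQ _ = φa x
    apply hsu.mul_left_cancel
    have := congrArg jQ (IsLocalization.mk'_spec (Localization.Away s) r
      (⟨s, Submonoid.mem_powers s⟩ : Submonoid.powers s))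
    rw [map_mul, AlgHom.commutes, AlgHom.commutes, mul_comm] at this
    rw [this, hr, Algebra.smul_def]
  have hjF : Function.Injective jF := hjQ
  let φ' : Γ(X, V) →ₐ[F] Localization.Away s :=
    (AlgEquiv.ofInjective jF hjF).symm.toAlgHom.comp ((Subalgebra.inclusion hrangeφ).comp φa.rangeRestrict)
  have hφ' : ∀ x, jF (φ' x) = φa x := fun x =>
    congrArg Subtype.val ((AlgEquiv.ofInjective jF hjF).apply_symm_apply
      (Subalgebra.inclusion hrangeφ (φa.rangeRestrict x)))
  refine ⟨s, hs0, jF, Spec.map (CommRingCat.ofHom φ'.toRingHom) ≫ hV.fromSpec, ?_, ?_⟩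
  · rw [← Spec.map_comp_assoc, ← hfac, ← hφ]
    congr 2
    ext x
    exact (hφ' x).symm
  · rw [Category.assoc, ← hψ, ← Spec.map_comp]
    congr 1
    ext x
    exact φ'.commutes x

/-- Every point of a proper group scheme with values in a rational function field is constant. -/
theorem exists_constant {K : Type u} [Field K] {A : Over (Spec (CommRingCat.of K))} [GrpObj A]
    [IsProper A.hom] (n : Type u) [Finite n] (Q : Type u) [Field Q] [Algebra (MvPolynomial n K) Q]
    [IsFractionRing (MvPolynomial n K) Q] [Algebra K Q] [IsScalarTower K (MvPolynomial n K) Q]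
    (g : Spec (CommRingCat.of Q) ⟶ A.left) (hg : g ≫ A.hom = Spec.map (CommRingCat.ofHom (algebraMap K Q))) :
    ∃ a : Spec (CommRingCat.of K) ⟶ A.left, a ≫ A.hom = 𝟙 _ ∧
      g = Spec.map (CommRingCat.ofHom (algebraMap K Q)) ≫ a := by
  obtain ⟨s, hs, jQ, g', hgg', hg'⟩ := exists_away (R := MvPolynomial n K) A.hom Q g hg
  obtain ⟨a, ha, hga⟩ := GrothLib.Rigidity.eq_comp_of_localization_mvPolynomial n s hs g' hg'
  refine ⟨a, ha, ?_⟩
  rw [hgg', hga, ← Spec.map_comp_assoc, ← CommRingCat.ofHom_comp]
  congr 3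
  exact jQ.comp_algebraMap

end GrothLib.RatPoints
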